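import Groth.Agent.Lib.Helper22.Cech.Top
import Groth.Agent.Lib.Helper29.Glue1
import Groth.Prelude.Def_UnitsSh

/-!
# Zariski sheaves on a scheme: gluing, units, explicit Čech `H¹` of an injective sheaf (helper22)
-/

set_option autoImplicit false
set_option linter.unusedSectionVars false

universe u

open CategoryTheory CategoryTheory.Limits Opposite AlgebraicGeometry TopologicalSpace

namespace Groth.Agent.Lib.Helper22.ZPic

open Groth.Agent.Lib.Helper22.Cech Groth.Agent.Lib.Helper29.QCoh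

noncomputable section

variable {X : Scheme.{u}}

section Cover

variable {ι : Type*} (V : ι → X.Opens) (W : X.Opens) (hVW : ∀ i, V i ≤ W)
  (hcov : ∀ x ∈ W, ∃ i, x ∈ V i)

include hcov in
lemma le_iSup_of_cov : W ≤ iSup V := by
  intro x hx
  obtain ⟨i, hi⟩ := hcov x hx
  exact Opens.mem_iSup.mpr ⟨i, hi⟩

include hcov in
/-- Sections of a sheaf are determined on a cover. -/
lemma tsep (F : CohTop.Ab X.toTopCat) (a b : F.obj.obj (op W))
    (h : ∀ i, rsp F.obj (hVW i) a = rsp F.obj (hVW i) b) : a = b :=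
  TopCat.Sheaf.eq_of_locally_eq' (F := F) V W (fun i => homOfLE (hVW i))
    (le_iSup_of_cov V W hcov) a b h

include hcov in
/-- Gluing of sections of a sheaf along a cover. -/
lemma tglue (F : CohTop.Ab X.toTopCat) (t : ∀ i, F.obj.obj (op (V i)))
    (hcompat : ∀ i j, rsp F.obj (inf_le_left : V i ⊓ V j ≤ V i) (t i) =
      rsp F.obj (inf_le_right : V i ⊓ V j ≤ V j) (t j)) :
    ∃ s : F.obj.obj (op W), ∀ i, rsp F.obj (hVW i) s = t i := by
  have hc : TopCat.Presheaf.IsCompatible F.obj V t := fun i j => hcompat i j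
  obtain ⟨s, hs, -⟩ := TopCat.Sheaf.existsUnique_gluing' (F := F) V W
    (fun i => homOfLE (hVW i)) (le_iSup_of_cov V W hcov) t hc
  exact ⟨s, hs⟩

end Cover

section Units

/-- Units on an open as sections of `O_X^×`. -/
def uz (U : X.Opens) (a : (Γ(X, U))ˣ) : (UnitsSh.unitsAb X).obj.obj (op U) :=
  UnitsSh.sectOfUnit (O := X.presheaf) (U := op U) a

lemma uz_mul (U : X.Opens) (a b : (Γ(X, U))ˣ) : uz U (a * b) = uz U a + uz U b := rfl

lemma uz_one (U : X.Opens) : uz (X := X) U 1 = 0 := rfl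

lemma uz_injective (U : X.Opens) : Function.Injective (uz (X := X) U) := fun _ _ h => h

lemma uz_surjective (U : X.Opens) (s : (UnitsSh.unitsAb X).obj.obj (op U)) :
    ∃ a : (Γ(X, U))ˣ, uz U a = s := ⟨UnitsSh.unitOfSect (O := X.presheaf) (U := op U) s, rfl⟩

/-- Restriction of units. -/
abbrev ures {U V : X.Opens} (h : V ≤ U) : (Γ(X, U))ˣ →* (Γ(X, V))ˣ :=
  Units.map (rres X h : Γ(X, U) →* Γ(X, V))

lemma map_uz {U U' : X.Opens} (h : U' ≤ U) (a : (Γ(X, U))ˣ) :
    rsp (UnitsSh.unitsAb X).obj h (uz U a) = uz U' (ures h a) := rfl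

end Units

end

end Groth.Agent.Lib.Helper22.ZPic
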