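import Groth.Agent.Lib.Helper22.ZPic.Basic

/-!
# Čech `H¹` of an injective sheaf on a space vanishes, in explicit terms (helper22)
-/

set_option autoImplicit false
set_option linter.unusedSectionVars false

universe u

open CategoryTheory CategoryTheory.Limits Opposite TopologicalSpace

namespace Groth.Agent.Lib.Helper22.ZPic

open Groth.Agent.Lib.Helper22.Cech

noncomputable section

variable {X : TopCat.{u}} {ι : Type u} (V : ι → Opens X)
  (P : (Opens X)ᵒᵖ ⥤ AddCommGrpCat.{u}) (c : ∀ i j, P.obj (op (V i ⊓ V j)))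

lemma Uσ_le_inf (σ : Fin 2 → ι) : Uσ V σ ≤ V (σ 0) ⊓ V (σ 1) :=
  le_inf (Uσ_le V σ 0) (Uσ_le V σ 1)

/-- The Čech `1`-cochain attached to a family of sections on pairwise intersections. -/
def tCochain : (CK V P).X 1 :=
  mk V P fun σ => rsp P (Uσ_le_inf V σ) (c (σ 0) (σ 1))

lemma face_tCochain (σ : Fin 3 → ι) (k a b : Fin 3) (ha : k.succAbove 0 = a)
    (hb : k.succAbove 1 = b) :
    P.map (face V σ k).op (proj V P 1 (σ ∘ k.succAbove) (tCochain V P c)) =
      rsp P (le_inf (Uσ_le V σ a) (Uσ_le V σ b)) (c (σ a) (σ b)) := by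
  subst ha hb
  unfold tCochain
  rw [proj_mk, map_eq_rsp, rsp_rsp]
  rfl

variable (hc : ∀ (i j k : ι) (W : Opens X) (hi : W ≤ V i) (hj : W ≤ V j) (hk : W ≤ V k),
  rsp P (le_inf hi hj) (c i j) + rsp P (le_inf hj hk) (c j k) = rsp P (le_inf hi hk) (c i k))

include hc in
lemma d_tCochain : (CK V P).d 1 2 (tCochain V P c) = 0 := by
  apply ext_proj
  intro σ
  rw [proj_d, map_zero, Fin.sum_univ_three, face_tCochain V P c σ 0 1 2 rfl rfl,
    face_tCochain V P c σ 1 0 2 rfl rfl, face_tCochain V P c σ 2 0 1 rfl rfl,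
    ← hc (σ 0) (σ 1) (σ 2) (Uσ V σ) (Uσ_le V σ 0) (Uσ_le V σ 1) (Uσ_le V σ 2)]
  simp

include hc in
/-- Čech `H¹` of a presheaf which is Čech-acyclic in degree one vanishes, in explicit terms. -/
theorem exists_coboundary_of_acyc (hP : Acyc V P 0) :
    ∃ t : ∀ i, P.obj (op (V i)), ∀ i j, c i j =
      rsp P (inf_le_right : V i ⊓ V j ≤ V j) (t j) -
        rsp P (inf_le_left : V i ⊓ V j ≤ V i) (t i) := by
  obtain ⟨y, hy⟩ := hP (tCochain V P c) (d_tCochain V P c hc)
  refine ⟨fun i => rsp P (le_Uσ_single V i) (proj V P 0 (single i) y), fun i j => ?_⟩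
  have h := congrArg (fun x => rsp P (inf_le_Uσ_pair V i j) (proj V P 1 (pair i j) x)) hy
  simp only at h
  rw [proj_d, Fin.sum_univ_two, map_add, map_zsmul, map_zsmul, map_eq_rsp, map_eq_rsp,
    rsp_rsp, rsp_rsp] at h
  have h0 := rsp_proj_congr V P (pair_comp_zero i j)
    ((inf_le_Uσ_pair V i j).trans (leOfHom (face V (pair i j) 0)))
    ((inf_le_right : V i ⊓ V j ≤ V j).trans (le_Uσ_single V j)) y
  have h1 := rsp_proj_congr V P (pair_comp_one i j)
    ((inf_le_Uσ_pair V i j).trans (leOfHom (face V (pair i j) 1)))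
    ((inf_le_left : V i ⊓ V j ≤ V i).trans (le_Uσ_single V i)) y
  rw [h0, h1] at h
  simp only [Fin.val_zero, pow_zero, one_smul, Fin.val_one, pow_one, neg_smul] at h
  unfold tCochain at h
  rw [proj_mk, rsp_rsp] at h
  have h3 : rsp P ((inf_le_right : V i ⊓ V j ≤ V j).trans (le_Uσ_single V j))
      (proj V P 0 (single j) y) +
      -rsp P ((inf_le_left : V i ⊓ V j ≤ V i).trans (le_Uσ_single V i))
        (proj V P 0 (single i) y) = c i j :=
    h.trans (rsp_self P (le_refl (V i ⊓ V j)) (c i j))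
  change c i j = rsp P inf_le_right (rsp P (le_Uσ_single V j) (proj V P 0 (single j) y)) -
    rsp P inf_le_left (rsp P (le_Uσ_single V i) (proj V P 0 (single i) y))
  rw [rsp_rsp, rsp_rsp, ← h3]
  exact (sub_eq_add_neg _ _).symm

end

end Groth.Agent.Lib.Helper22.ZPic
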