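import Groth.Agent.Lib.Helper22.ZPic.Adm
import Groth.Prelude.Def_PicGrp

/-!
# `Pic(X) ≃+ H¹(X, O_X^×)` (helper22)
-/

set_option autoImplicit false
set_option linter.unusedSectionVars false

universe u

open CategoryTheory CategoryTheory.Limits Opposite AlgebraicGeometry Abelian TopologicalSpace

namespace Groth.Agent.Lib.Helper22.ZPic

open Groth.Agent.Lib.Helper22.Cech Groth.Agent.Lib.Helper22.CohTop
open Groth.Agent.Lib.Helper29.QCoh

noncomputable section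

section Delta

variable {Y : TopCat.{u}}

/-- The constant sheaf `ℤ`. -/
abbrev ZT (Y : TopCat.{u}) : CohTop.Ab Y :=
  (constantSheaf (Opens.grothendieckTopology Y) AddCommGrpCat.{u}).obj
    (AddCommGrpCat.of (ULift.{u} ℤ))

/-- The connecting map `Q(Y) → H¹(F)` for the injective-hull sequence `0 → F → I → Q → 0`. -/
def delta (F : CohTop.Ab Y) : (injSC F).X₃.obj.obj (op (⊤ : Opens Y)) →+ CohTop.H F 1 :=
  ((injSC_shortExact F).extClass.postcomp (ZT Y) (zero_add 1)).comp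
    (Sheaf.H.equiv₀ (injSC F).X₃ (isTerminalTop : IsTerminal (⊤ : Opens Y))).symm.toAddMonoidHom

lemma delta_apply (F : CohTop.Ab Y) (b : (injSC F).X₃.obj.obj (op (⊤ : Opens Y))) :
    delta F b = (((Sheaf.H.equiv₀ (injSC F).X₃
      (isTerminalTop : IsTerminal (⊤ : Opens Y))).symm b :
      Ext (ZT Y) (injSC F).X₃ 0)).comp (injSC_shortExact F).extClass (zero_add 1) :=
  rfl

lemma delta_surjective (F : CohTop.Ab Y) : Function.Surjective (delta F) := by
  intro c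
  have hS := injSC_shortExact F
  have h0 : (c : Ext (ZT Y) (injSC F).X₁ 1).comp
      (Ext.mk₀ (injSC F).f) (add_zero 1) = 0 := Ext.eq_zero_of_injective _
  obtain ⟨β, hβ⟩ := Ext.covariant_sequence_exact₁ _ hS c h0 (zero_add 1)
  refine ⟨Sheaf.H.equiv₀ _ isTerminalTop β, ?_⟩
  rw [delta_apply, AddEquiv.symm_apply_apply]
  exact hβ

lemma delta_eq_zero_iff (F : CohTop.Ab Y) (b : (injSC F).X₃.obj.obj (op (⊤ : Opens Y))) :
    delta F b = 0 ↔ ∃ y, (injSC F).g.hom.app (op (⊤ : Opens Y)) y = b := by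
  have hS := injSC_shortExact F
  have hT : IsTerminal (⊤ : Opens Y) := isTerminalTop
  constructor
  · intro h0
    rw [delta_apply] at h0
    obtain ⟨x₂, hx₂⟩ := Ext.covariant_sequence_exact₃ _ hS _ (zero_add 1) h0
    refine ⟨Sheaf.H.equiv₀ _ isTerminalTop x₂, ?_⟩
    have h := Sheaf.H.equiv₀_naturality (hT := (isTerminalTop : IsTerminal (⊤ : Opens Y)))
      (injSC F).g x₂
    rw [h, Sheaf.H.map_apply, hx₂]
    exact AddEquiv.apply_symm_apply _ b
  · rintro ⟨y, rfl⟩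
    have h1 : Sheaf.H.map (injSC F).g 0 ((Sheaf.H.equiv₀ _ isTerminalTop).symm y) =
        (Sheaf.H.equiv₀ _ isTerminalTop).symm ((injSC F).g.hom.app (op (⊤ : Opens Y)) y) :=
      Sheaf.H.equiv₀_symm_naturality (hT := (isTerminalTop : IsTerminal (⊤ : Opens Y)))
        (injSC F).g y
    rw [Sheaf.H.map_apply] at h1
    rw [delta_apply, ← h1, Ext.comp_assoc_of_second_deg_zero, hS.comp_extClass, Ext.comp_zero]

end Delta

variable {X : Scheme.{u}}

lemma u_hinj (T : X.Opens) :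
    Function.Injective ((injSC (UnitsSh.unitsAb X)).f.hom.app (op T)) := by
  have hmono : Mono (injSC (UnitsSh.unitsAb X)).f := (injSC_shortExact _).mono_f
  exact CohTop.injective_app_of_mono _ T

lemma u_hzero (T : X.Opens) (z : (UnitsSh.unitsAb X).obj.obj (op T)) :
    (injSC (UnitsSh.unitsAb X)).g.hom.app (op T)
      ((injSC (UnitsSh.unitsAb X)).f.hom.app (op T) z) = 0 := by
  have h6 := (injSC (UnitsSh.unitsAb X)).zero
  exact congrArg (fun ψ : (injSC (UnitsSh.unitsAb X)).X₁ ⟶ (injSC (UnitsSh.unitsAb X)).X₃ =>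
    ψ.hom.app (op T) z) h6

lemma u_hex (T : X.Opens) (y : (injSC (UnitsSh.unitsAb X)).X₂.obj.obj (op T))
    (hy : (injSC (UnitsSh.unitsAb X)).g.hom.app (op T) y = 0) :
    ∃ z, (injSC (UnitsSh.unitsAb X)).f.hom.app (op T) z = y := by
  have hS := injSC_shortExact (UnitsSh.unitsAb X)
  have hmono : Mono (injSC (UnitsSh.unitsAb X)).f := hS.mono_f
  exact TopCat.Sheaf.sections_exact_of_left_exact hS.1 hmono y hy

lemma u_hacyc (U : X → X.Opens)
    (c : ∀ i j, (injSC (UnitsSh.unitsAb X)).X₂.obj.obj (op (U i ⊓ U j)))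
    (hc : ∀ (i j k : X) (W : X.Opens) (hi : W ≤ U i) (hj : W ≤ U j) (hk : W ≤ U k),
      rsp (injSC (UnitsSh.unitsAb X)).X₂.obj (le_inf hi hj) (c i j) +
        rsp (injSC (UnitsSh.unitsAb X)).X₂.obj (le_inf hj hk) (c j k) =
          rsp (injSC (UnitsSh.unitsAb X)).X₂.obj (le_inf hi hk) (c i k)) :
    ∃ t : ∀ i, (injSC (UnitsSh.unitsAb X)).X₂.obj.obj (op (U i)), ∀ i j, c i j =
      rsp (injSC (UnitsSh.unitsAb X)).X₂.obj (inf_le_right : U i ⊓ U j ≤ U j) (t j) -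
        rsp (injSC (UnitsSh.unitsAb X)).X₂.obj (inf_le_left : U i ⊓ U j ≤ U i) (t i) :=
  exists_coboundary_of_acyc (X := X.toTopCat) U (injSC (UnitsSh.unitsAb X)).X₂.obj c hc
    (acyc_of_injective_sheaf U (injSC (UnitsSh.unitsAb X)).X₂ 0)

lemma u_hloc (b : (injSC (UnitsSh.unitsAb X)).X₃.obj.obj (op (⊤ : X.Opens))) (x : X) :
    ∃ U : X.Opens, x ∈ U ∧ ∃ τ : (injSC (UnitsSh.unitsAb X)).X₂.obj.obj (op U),
      (injSC (UnitsSh.unitsAb X)).g.hom.app _ τ =
        rsp (injSC (UnitsSh.unitsAb X)).X₃.obj le_top b := by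
  have hS := injSC_shortExact (UnitsSh.unitsAb X)
  have hepi : Epi (injSC (UnitsSh.unitsAb X)).g := hS.epi_g
  have hls : Sheaf.IsLocallySurjective (injSC (UnitsSh.unitsAb X)).g :=
    (Sheaf.isLocallySurjective_iff_epi' _ (injSC (UnitsSh.unitsAb X)).g).2 inferInstance
  have hmem := Presheaf.imageSieve_mem (Opens.grothendieckTopology X.toTopCat)
    (injSC (UnitsSh.unitsAb X)).g.hom b
  obtain ⟨U, φ, ⟨τ, hτ⟩, hxU⟩ := hmem x trivial
  refine ⟨U, hxU, τ, ?_⟩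
  rw [hτ]
  rfl

/-- `b` is the section of `Q = I/O^×` attached to `L` by some choice of local trivialisations. -/
def Adm (L : X.Modules)
    (b : (injSC (UnitsSh.unitsAb X)).X₃.obj.obj (op (⊤ : X.Opens))) : Prop :=
  ∃ (U : X → X.Opens) (_ : ∀ x, x ∈ U x),
    Nonempty (AdmData (injSC (UnitsSh.unitsAb X)).f (injSC (UnitsSh.unitsAb X)).g L b U)

/-- The connecting map `Q(X) → H¹(X, O_X^×)`. -/
abbrev dU (X : Scheme.{u}) :
    (injSC (UnitsSh.unitsAb X)).X₃.obj.obj (op (⊤ : X.Opens)) →+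
      CohTop.H (UnitsSh.unitsAb X) 1 :=
  delta (UnitsSh.unitsAb X)

lemma Adm.delta_eq {L L' : X.Modules}
    {b b' : (injSC (UnitsSh.unitsAb X)).X₃.obj.obj (op (⊤ : X.Opens))}
    (h : Adm L b) (h' : Adm L' b') (φ : L ≅ L') : dU X b = dU X b' := by
  obtain ⟨U, hxU, ⟨D⟩⟩ := h
  obtain ⟨U', hxU', ⟨D'⟩⟩ := h'
  let V : X → X.Opens := fun x => U x ⊓ U' x
  have hxV : ∀ x, x ∈ V x := fun x => ⟨hxU x, hxU' x⟩
  obtain ⟨s, hs⟩ := AdmData.exists_diff u_hinj u_hzero hxV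
    ((D.ofIso φ).restrict V fun _ => inf_le_left) (D'.restrict V fun _ => inf_le_right)
  have h0 : dU X (b' - b) = 0 := (delta_eq_zero_iff _ _).2 ⟨s, hs⟩
  rw [map_sub, sub_eq_zero] at h0
  exact h0.symm

lemma Adm.tensor {L L' : X.Modules} (hL : PicF.IsInvertible L) (hL' : PicF.IsInvertible L')
    {b b' : (injSC (UnitsSh.unitsAb X)).X₃.obj.obj (op (⊤ : X.Opens))}
    (h : Adm L b) (h' : Adm L' b') : Adm (CohB1.tensorMod L L') (b + b') := by
  obtain ⟨U, hxU, ⟨D⟩⟩ := h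
  obtain ⟨U', hxU', ⟨D'⟩⟩ := h'
  have := isQuasicoherent_of_isInvertible hL
  have := isQuasicoherent_of_isInvertible hL'
  exact ⟨fun x => U x ⊓ U' x, fun x => ⟨hxU x, hxU' x⟩,
    ⟨(D.restrict _ fun _ => inf_le_left).tensor (D'.restrict _ fun _ => inf_le_right)⟩⟩

/-- **The Picard group is `H¹(X, O_X^×)`.** -/
theorem nonempty_addEquiv_pic_H1_units (X : Scheme.{u}) [PicGrp.Law X] :
    Nonempty (Additive (PicLoc.PicSet X) ≃+ CohTop.H (UnitsSh.unitsAb X) 1) := by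
  have hadm : ∀ (L : X.Modules), PicF.IsInvertible L → ∃ b, Adm L b := by
    intro L hL
    obtain ⟨b, U, hxU, hD⟩ := exists_admData_of_invertible
      (f := (injSC (UnitsSh.unitsAb X)).f) (g := (injSC (UnitsSh.unitsAb X)).g)
      u_hzero u_hacyc L hL
    exact ⟨b, U, hxU, hD⟩
  have hΦ : ∀ c : PicLoc.PicSet X, ∃ h : CohTop.H (UnitsSh.unitsAb X) 1,
      ∀ (L : X.Modules) (hL : PicF.IsInvertible L) b, c = PicGrp.cls L hL → Adm L b →
        dU X b = h := by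
    intro c
    obtain ⟨L₀, hL₀, hc₀⟩ := PicGrp.exists_eq_cls c
    obtain ⟨b₀, hb₀⟩ := hadm L₀ hL₀
    refine ⟨dU X b₀, fun L hL b hc hb => ?_⟩
    obtain ⟨φ⟩ := (PicGrp.cls_eq_cls_iff hL hL₀).1 (hc.symm.trans hc₀)
    exact hb.delta_eq hb₀ φ
  choose Φ hΦ using hΦ
  have hmul : ∀ c c' : PicLoc.PicSet X, Φ (c * c') = Φ c + Φ c' := by
    intro c c'
    obtain ⟨L, hL, hc⟩ := PicGrp.exists_eq_cls c
    obtain ⟨L', hL', hc'⟩ := PicGrp.exists_eq_cls c'
    obtain ⟨b, hb⟩ := hadm L hL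
    obtain ⟨b', hb'⟩ := hadm L' hL'
    have hcc : c * c' = PicGrp.cls (CohB1.tensorMod L L') (isInvertible_tensorMod hL hL') := by
      apply Subtype.ext
      rw [hc, hc', PicGrp.cls_mul_cls_val]
      rfl
    rw [← hΦ (c * c') _ _ (b + b') hcc (hb.tensor hL hL' hb'), ← hΦ c L hL b hc hb,
      ← hΦ c' L' hL' b' hc' hb', map_add]
  let Φ' : Additive (PicLoc.PicSet X) →+ CohTop.H (UnitsSh.unitsAb X) 1 :=
    AddMonoidHom.mk' (fun a => Φ a.toMul) (fun a a' => hmul a.toMul a'.toMul)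
  refine ⟨AddEquiv.ofBijective Φ' ⟨?_, ?_⟩⟩
  · rw [injective_iff_map_eq_zero]
    intro a ha
    obtain ⟨L, hL, hc⟩ := PicGrp.exists_eq_cls a.toMul
    obtain ⟨b, hb⟩ := hadm L hL
    have h1 : dU X b = 0 := (hΦ a.toMul L hL b hc hb).trans ha
    obtain ⟨s, hs⟩ := (delta_eq_zero_iff _ _).1 h1
    obtain ⟨U, hxU, ⟨D⟩⟩ := hb
    have hiso := D.nonempty_iso_unit u_hinj u_hex hxU s hs
    have h2 : PicGrp.cls L hL = 1 := by
      rw [← PicGrp.cls_structureModule_eq_one]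
      exact (PicGrp.cls_eq_cls_iff hL _).2 hiso
    apply Additive.toMul.injective
    rw [hc, h2]
    rfl
  · intro h
    obtain ⟨b, hb⟩ := delta_surjective (UnitsSh.unitsAb X) h
    obtain ⟨L, hL, U, hxU, hD⟩ := exists_admData_of_section
      (f := (injSC (UnitsSh.unitsAb X)).f) (g := (injSC (UnitsSh.unitsAb X)).g)
      u_hinj u_hex b (u_hloc b)
    refine ⟨Additive.ofMul (PicGrp.cls L hL), ?_⟩
    change Φ (PicGrp.cls L hL) = h
    rw [← hΦ (PicGrp.cls L hL) L hL b rfl ⟨U, hxU, hD⟩]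
    exact hb

end

end Groth.Agent.Lib.Helper22.ZPic
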